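import Cfsg.Agent.ExtraspecialLift.Pauli

/-!
# Hyperbolic coordinates of a plus type quadratic space and the signs of an isometry
-/

set_option autoImplicit false

namespace CfsgLib.ExtraspecialLift

variable {n : ℕ}

/-- A plus type space of dimension `2n` has coordinates in which the form is the dot product. -/
theorem exists_coordinates {U : Type*} [AddCommGroup U] [Module (ZMod 2) U]
    [Module.Finite (ZMod 2) U] (hn : Module.finrank (ZMod 2) U = 2 * n)
    (q : QuadraticForm (ZMod 2) U) (hnd : (QuadraticMap.polarBilin q).Nondegenerate)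
    (hplus : ∃ W : Submodule (ZMod 2) U, Module.finrank (ZMod 2) ↥W = n ∧ ∀ w ∈ W, q w = 0) :
    ∃ L : Lab n ≃ₗ[ZMod 2] U, ∀ z, q (L z) = coc z z := by
  classical
  obtain ⟨W, hWn, hW⟩ := hplus
  have hBdef : ∀ x y : U, q (x + y) = q x + q y + QuadraticMap.polarBilin q x y := fun x y => by
    rw [QuadraticMap.polarBilin_apply_apply, QuadraticMap.polar]
    abel
  set B := QuadraticMap.polarBilin q with hB
  have hsymm : ∀ x y : U, B x y = B y x := fun x y => by
    simp only [hB, QuadraticMap.polarBilin_apply_apply]
    exact QuadraticMap.polar_comm q x y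
  have hBW : ∀ x ∈ W, ∀ y ∈ W, B x y = 0 := fun x hx y hy => by
    have h := hBdef x y
    rw [hW _ (W.add_mem hx hy), hW _ hx, hW _ hy] at h
    simpa using h.symm
  have hBself : ∀ x : U, B x x = 0 := fun x => by
    have h := hBdef x x
    rw [show x + x = 0 by rw [← two_smul (ZMod 2), show (2 : ZMod 2) = 0 from rfl, zero_smul],
      QuadraticMap.map_zero] at h
    revert h
    generalize q x = a
    generalize B x x = c
    revert a c
    decide +kernel
  let b : Module.Basis (Fin n) (ZMod 2) W := Module.finBasisOfFinrankEq _ _ hWn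
  -- dual vectors
  have hBsurj : Function.Surjective (B : U → Module.Dual (ZMod 2) U) := by
    have hinj : Function.Injective B := LinearMap.ker_eq_bot.1 (LinearMap.separatingLeft_iff_ker_eq_bot.1 hnd.1)
    exact (LinearMap.injective_iff_surjective_of_finrank_eq_finrank Subspace.dual_finrank_eq.symm).1 hinj
  have hu : ∀ i : Fin n, ∃ u : U, ∀ j, B u (b j : U) = if i = j then 1 else 0 := fun i => by
    obtain ⟨f, hf⟩ := LinearMap.exists_extend (b.coord i)
    obtain ⟨u, hu⟩ := hBsurj f
    refine ⟨u, fun j => ?_⟩
    rw [hu, show f (b j : U) = b.coord i (b j) from LinearMap.congr_fun hf (b j)]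
    simp [Finsupp.single_apply, eq_comm]
  choose u hu using hu
  -- correction by vectors of `W`
  let c : Fin n → Fin n → ZMod 2 := fun i j =>
    if j = i then q (u i) else if j < i then B (u i) (u j) else 0
  let t : Fin n → U := fun i => ∑ j, c i j • (b j : U)
  have htW : ∀ i, t i ∈ W := fun i => W.sum_mem fun j _ => W.smul_mem _ (b j).2
  have hut : ∀ i k, B (u k) (t i) = c i k := fun i k => by
    simp [t, map_sum, hu]
  let v : Fin n → U := fun i => u i + t i
  have hvw : ∀ i j, B (v i) (b j : U) = if i = j then 1 else 0 := fun i j => by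
    simp [v, hu, hBW _ (htW i) _ (b j).2]
  have hvq : ∀ i, q (v i) = 0 := fun i => by
    simp only [v]
    rw [hBdef, hW _ (htW i), add_zero, hut]
    simp only [c, if_true]
    exact zmod_two_facts.1 _
  have hvv : ∀ i j, B (v i) (v j) = 0 := fun i j => by
    by_cases hij : i = j
    · subst hij
      exact hBself _
    · simp only [v, map_add, LinearMap.add_apply]
      rw [hBW _ (htW i) _ (htW j), hut, hsymm (t i) (u j), hut, add_zero]
      simp only [c]
      rcases lt_or_gt_of_ne hij with h | h
      · rw [if_neg hij, if_pos h, if_neg (Ne.symm hij), if_neg (not_lt.2 h.le), hsymm (u j) (u i), add_zero]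
        exact zmod_two_facts.1 _
      · rw [if_neg hij, if_neg (not_lt.2 h.le), if_neg (Ne.symm hij), if_pos h, add_zero]
        exact zmod_two_facts.1 _
  let f : Lab n →ₗ[ZMod 2] U :=
    (Fintype.linearCombination (ZMod 2) fun i => (b i : U)).coprod
      (Fintype.linearCombination (ZMod 2) v)
  have hf : ∀ z : Lab n, f z = (∑ i, z.1 i • (b i : U)) + ∑ i, z.2 i • v i := fun z => by
    simp [f, Fintype.linearCombination_apply]
  have hqv : ∀ (a : Idx n) (s : Finset (Fin n)), q (∑ i ∈ s, a i • v i) = 0 := by
    intro a s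
    induction s using Finset.induction_on with
    | empty => simp
    | insert i s his ih =>
      rw [Finset.sum_insert his, hBdef, ih, QuadraticMap.map_smul, hvq]
      simp [map_sum, hvv]
  have hqf : ∀ z, q (f z) = coc z z := fun z => by
    rw [hf, hBdef, hqv, hW _ (W.sum_mem fun i _ => W.smul_mem _ (b i).2), hsymm]
    simp [map_sum, hvw, coc, dot, mul_comm]
  have hinj : Function.Injective f := by
    rw [← LinearMap.ker_eq_bot, eq_bot_iff]
    intro z hz
    rw [LinearMap.mem_ker, hf] at hz
    have h2 : ∀ j, z.2 j = 0 := fun j => by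
      have h := congrArg (fun x => B (b j : U) x) hz
      simp only [map_add, map_sum, map_smul, map_zero, hsymm (b j : U) (v _), hvw,
        hBW _ (b j).2 _ (b _).2] at h
      simpa using h
    have h1 : ∀ j, z.1 j = 0 := fun j => by
      have h := congrArg (fun x => B (v j) x) hz
      simp only [map_add, map_sum, map_smul, map_zero, hvw, hvv] at h
      simpa using h
    exact Submodule.mem_bot _ |>.2 (Prod.ext (funext h1) (funext h2))
  have hdim : Module.finrank (ZMod 2) (Lab n) = Module.finrank (ZMod 2) U := by
    rw [hn, Module.finrank_prod, Module.finrank_pi, Fintype.card_fin]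
    omega
  exact ⟨LinearEquiv.ofBijective f
    ⟨hinj, (LinearMap.injective_iff_surjective_of_finrank_eq_finrank hdim).1 hinj⟩, hqf⟩

/-- The cocycle as a bilinear map. -/
def cocL (n : ℕ) : Lab n →ₗ[ZMod 2] Lab n →ₗ[ZMod 2] ZMod 2 :=
  LinearMap.mk₂ (ZMod 2) coc coc_add_left
    (fun c z w => by simp [coc, dot, Finset.mul_sum, mul_left_comm])
    coc_add_right
    (fun c z w => by simp [coc, dot, Finset.mul_sum, mul_assoc])

/-- An isometry of the form has a sign function. -/
theorem exists_signs (φ : Lab n →ₗ[ZMod 2] Lab n) (hφ : ∀ z, coc (φ z) (φ z) = coc z z) :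
    ∃ η : Lab n → ZMod 2, ∀ z w, η (z + w) = η z + η w + coc z w + coc (φ z) (φ w) := by
  classical
  let D : Lab n →ₗ[ZMod 2] Lab n →ₗ[ZMod 2] ZMod 2 := cocL n + (cocL n).compl₁₂ φ φ
  have hD : ∀ z w, D z w = coc z w + coc (φ z) (φ w) := fun z w => rfl
  have hD0 : ∀ z, D z z = 0 := fun z => by rw [hD, hφ]; exact zmod_two_facts.1 _
  have hDs : ∀ z w, D z w = D w z := fun z w => by
    have h := hD0 (z + w)
    simp only [map_add, LinearMap.add_apply, hD0, zero_add, add_zero] at h
    revert h
    generalize D z w = a
    generalize D w z = c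
    revert a c
    decide +kernel
  let b := Module.finBasis (ZMod 2) (Lab n)
  let T : Lab n → Lab n → ZMod 2 := fun z w =>
    ∑ i, ∑ j, if i < j then b.repr z i * b.repr w j * D (b i) (b j) else 0
  have hT : ∀ z w, T z w + T w z = D z w := fun z w => by
    have he : D z w = ∑ i, ∑ j, b.repr z i * b.repr w j * D (b i) (b j) := by
      conv_lhs => rw [← b.sum_repr z, ← b.sum_repr w]
      simp only [map_sum, map_smul, LinearMap.sum_apply, LinearMap.smul_apply, smul_eq_mul,
        Finset.mul_sum]
      rw [Finset.sum_comm]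
      exact Finset.sum_congr rfl fun i _ => Finset.sum_congr rfl fun j _ => by ring
    rw [he]
    show _ + ∑ i, ∑ j, _ = _
    rw [Finset.sum_comm (f := fun i j => if i < j then b.repr w i * b.repr z j * D (b i) (b j) else 0),
      ← Finset.sum_add_distrib]
    refine Finset.sum_congr rfl fun i _ => ?_
    rw [← Finset.sum_add_distrib]
    refine Finset.sum_congr rfl fun j _ => ?_
    rcases lt_trichotomy i j with h | h | h
    · rw [if_pos h, if_neg (not_lt.2 h.le), add_zero]
    · subst h
      simp [hD0]
    · rw [if_neg (not_lt.2 h.le), if_pos h, zero_add, hDs (b j) (b i), mul_comm (b.repr w j)]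
  refine ⟨fun z => T z z, fun z w => ?_⟩
  show T (z + w) (z + w) = T z z + T w w + coc z w + coc (φ z) (φ w)
  have hadd : T (z + w) (z + w) = T z z + T z w + (T w z + T w w) := by
    simp only [T, map_add, Finsupp.add_apply, ← Finset.sum_add_distrib]
    refine Finset.sum_congr rfl fun i _ => Finset.sum_congr rfl fun j _ => ?_
    split <;> ring
  rw [hadd]
  have h1 := hT z w
  rw [hD] at h1
  linear_combination h1

end CfsgLib.ExtraspecialLift
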