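import Cfsg.Agent.ExtraspecialLift.Coordinates

/-!
# The group of monomial intertwiners over a group of isometries
-/

set_option autoImplicit false

namespace CfsgLib.ExtraspecialLift

open Matrix

variable {n : ℕ}

/-- The intertwining relation. -/
def Twists (x : GL (Idx n) (ZMod 3) × Equiv.Perm (Lab n)) : Prop :=
  ∀ z, ∃ ε, x.1.1 * pauli z = sgn ε • (pauli (x.2 z) * x.1.1)

/-- The lifted group over a group of permutations of labels. -/
def liftGroup (A : Subgroup (Equiv.Perm (Lab n))) :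
    Subgroup (GL (Idx n) (ZMod 3) × Equiv.Perm (Lab n)) where
  carrier := {x | x.2 ∈ A ∧ Twists x}
  one_mem' := ⟨A.one_mem, fun z => ⟨0, by simp [sgn_zero]⟩⟩
  mul_mem' := by
    rintro x y ⟨hx, hx'⟩ ⟨hy, hy'⟩
    refine ⟨A.mul_mem hx hy, fun z => ?_⟩
    obtain ⟨e, he⟩ := hy' z
    obtain ⟨d, hd⟩ := hx' (y.2 z)
    refine ⟨e + d, ?_⟩
    simp only [Prod.fst_mul, Prod.snd_mul, Units.val_mul, Equiv.Perm.mul_apply]
    rw [mul_assoc, he, Matrix.mul_smul, ← mul_assoc, hd, Matrix.smul_mul, smul_smul, sgn_add,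
      mul_assoc]
  inv_mem' := by
    rintro x ⟨hx, hx'⟩
    refine ⟨A.inv_mem hx, fun z => ?_⟩
    obtain ⟨e, he⟩ := hx' ((x.2)⁻¹ z)
    rw [Equiv.Perm.coe_inv, Equiv.apply_symm_apply] at he
    refine ⟨e, ?_⟩
    simp only [Prod.fst_inv, Prod.snd_inv, Equiv.Perm.coe_inv]
    have h := congrArg (fun M => sgn e • ((x.1⁻¹).1 * M * (x.1⁻¹).1)) he
    simp only [Matrix.mul_smul, Matrix.smul_mul, smul_smul, sgn_mul_self, one_smul] at h
    simp only [mul_assoc, Units.mul_inv, mul_one] at h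
    simp only [← mul_assoc, Units.inv_mul, one_mul] at h
    exact h.symm

/-- The projection to the permutations of labels. -/
def liftProj (A : Subgroup (Equiv.Perm (Lab n))) : liftGroup A →* A where
  toFun x := ⟨x.1.2, x.2.1⟩
  map_one' := rfl
  map_mul' _ _ := rfl

theorem liftProj_surjective (A : Subgroup (Equiv.Perm (Lab n)))
    (hA : ∀ π ∈ A, (∀ z w, π (z + w) = π z + π w) ∧ ∃ η : Lab n → ZMod 2,
      ∀ z w, η (z + w) = η z + η w + coc z w + coc (π z) (π w)) :
    Function.Surjective (liftProj A) := by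
  rintro ⟨π, hπ⟩
  obtain ⟨hadd, η, hη⟩ := hA π hπ
  obtain ⟨g, hg⟩ := exists_intertwiner π hadd η hη
  exact ⟨⟨(g, π), hπ, fun z => ⟨η z, hg z⟩⟩, rfl⟩

/-- A sign followed by a matrix, as a unit. -/
def signedUnit (p : ZMod 2 × Lab n) : GL (Idx n) (ZMod 3) where
  val := sgn p.1 • pauli p.2
  inv := sgn (p.1 + coc p.2 p.2) • pauli p.2
  val_inv := by
    rw [Matrix.smul_mul, Matrix.mul_smul, smul_smul, pauli_mul, smul_smul, lab_add_self, pauli_zero,
      ← sgn_add, ← sgn_add]
    generalize p.1 = a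
    generalize coc p.2 p.2 = c
    rw [show a + (a + c) + c = 0 by revert a c; decide +kernel, sgn_zero, one_smul]
  inv_val := by
    rw [Matrix.smul_mul, Matrix.mul_smul, smul_smul, pauli_mul, smul_smul, lab_add_self, pauli_zero,
      ← sgn_add, ← sgn_add]
    generalize p.1 = a
    generalize coc p.2 p.2 = c
    rw [show a + c + a + c = 0 by revert a c; decide +kernel, sgn_zero, one_smul]

theorem signedUnit_val (p : ZMod 2 × Lab n) : (signedUnit p).1 = sgn p.1 • pauli p.2 := rfl

theorem signedUnit_twists (p : ZMod 2 × Lab n) (z : Lab n) :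
    (signedUnit p).1 * pauli z = sgn (coc p.2 z + coc z p.2) • (pauli z * (signedUnit p).1) := by
  rw [signedUnit_val, Matrix.smul_mul, Matrix.mul_smul, pauli_comm, smul_comm]

theorem signedUnit_mem (A : Subgroup (Equiv.Perm (Lab n))) (p : ZMod 2 × Lab n) :
    (signedUnit p, (1 : Equiv.Perm (Lab n))) ∈ liftGroup A :=
  ⟨A.one_mem, fun z => ⟨_, signedUnit_twists p z⟩⟩

/-- The kernel element attached to a sign and a label. -/
def kerElem (A : Subgroup (Equiv.Perm (Lab n))) (p : ZMod 2 × Lab n) : (liftProj A).ker :=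
  ⟨⟨(signedUnit p, 1), signedUnit_mem A p⟩, rfl⟩

theorem kerElem_injective (A : Subgroup (Equiv.Perm (Lab n))) :
    Function.Injective (kerElem A) := by
  intro p p' h
  have h1 : (signedUnit p).1 = (signedUnit p').1 :=
    congrArg (fun a : (liftProj A).ker => a.1.1.1.1) h
  obtain ⟨hd, hz⟩ := signed_injective h1
  exact Prod.ext hd hz

theorem kerElem_mul (A : Subgroup (Equiv.Perm (Lab n))) (p p' : ZMod 2 × Lab n) :
    kerElem A p * kerElem A p' = kerElem A (p.1 + p'.1 + coc p.2 p'.2, p.2 + p'.2) := by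
  refine Subtype.ext (Subtype.ext (Prod.ext (Units.ext ?_) (one_mul _)))
  show (signedUnit p).1 * (signedUnit p').1 =
    (signedUnit (p.1 + p'.1 + coc p.2 p'.2, p.2 + p'.2)).1
  rw [signedUnit_val, signedUnit_val, signedUnit_val, Matrix.smul_mul, Matrix.mul_smul, smul_smul,
    pauli_mul, smul_smul, ← sgn_add, ← sgn_add]

theorem pairing_surjective (ε : Lab n → ZMod 2) (hε : ∀ z w, ε (z + w) = ε z + ε w) :
    ∃ z, ∀ w, coc z w + coc w z = ε w := by
  classical
  let l : Lab n →ₗ[ZMod 2] ZMod 2 := (AddMonoidHom.mk' ε hε).toZModLinearMap 2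
  refine ⟨(fun i => l (0, Pi.single i 1), fun i => l (Pi.single i 1, 0)), fun w => ?_⟩
  show _ = l w
  have h1 : l w = (l.comp (LinearMap.inl (ZMod 2) (Idx n) (Idx n))) w.1 +
      (l.comp (LinearMap.inr (ZMod 2) (Idx n) (Idx n))) w.2 := by
    rw [LinearMap.comp_apply, LinearMap.comp_apply, ← map_add]
    simp
  rw [h1, LinearMap.pi_apply_eq_sum_univ _ w.1, LinearMap.pi_apply_eq_sum_univ _ w.2]
  have hs : ∀ i : Fin n, (fun j => if i = j then (1 : ZMod 2) else 0) = Pi.single i 1 := fun i => by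
    funext j
    simp [Pi.single_apply, eq_comm]
  simp only [hs, LinearMap.comp_apply, LinearMap.inl_apply, LinearMap.inr_apply, smul_eq_mul]
  rw [add_comm (coc _ w)]
  simp [coc, dot, mul_comm]

theorem pairing_eq_zero {z : Lab n} (h : ∀ w, coc z w + coc w z = 0) : z = 0 := by
  refine Prod.ext (funext fun i => ?_) (funext fun i => ?_)
  · simpa [coc, dot_single, dot_zero_left, dot_comm z.2 0] using h (0, Pi.single i 1)
  · simpa [coc, dot_single, dot_zero_left, dot_comm z.2 (Pi.single i 1)] using h (Pi.single i 1, 0)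

theorem kerElem_surjective (A : Subgroup (Equiv.Perm (Lab n))) :
    Function.Surjective (kerElem A) := by
  rintro ⟨⟨⟨g, π⟩, hπ, hg⟩, hk⟩
  have hπ1 : π = 1 := congrArg Subtype.val hk
  subst hπ1
  obtain ⟨ε, hε⟩ : ∃ ε : Lab n → ZMod 2, ∀ w, g.1 * pauli w = sgn (ε w) • (pauli w * g.1) :=
    ⟨fun w => (hg w).choose, fun w => (hg w).choose_spec⟩
  have hne : ∀ w, pauli w * g.1 ≠ 0 := fun w h => by
    have h1 := congrArg (fun M => (signedUnit (0, w) * g)⁻¹.1 * M) (
      show (signedUnit (0, w) * g).1 = 0 by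
        rw [Units.val_mul, signedUnit_val, sgn_zero, one_smul, h])
    simp only [Units.inv_mul, mul_zero] at h1
    exact one_ne_zero h1
  have hadd : ∀ w w', ε (w + w') = ε w + ε w' := fun w w' => by
    have h1 : g.1 * (pauli w * pauli w') =
        sgn (ε w + ε w') • (pauli w * pauli w' * g.1) := by
      rw [← mul_assoc, hε, Matrix.smul_mul, mul_assoc, hε, Matrix.mul_smul, smul_smul, sgn_add,
        mul_assoc]
    rw [pauli_mul, Matrix.mul_smul, hε, Matrix.smul_mul, smul_smul, smul_smul, mul_comm] at h1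
    exact sgn_injective (mul_right_cancel₀ (sgn_ne_zero _) (smul_left_injective _ (hne (w + w')) h1))
  obtain ⟨z, hz⟩ := pairing_surjective ε hadd
  set M := pauli z * g.1 with hM
  have hcomm : ∀ w, pauli w * M = M * pauli w := fun w => by
    have h2 : pauli w * g.1 = sgn (ε w) • (g.1 * pauli w) := by
      rw [hε, smul_smul, sgn_mul_self, one_smul]
    rw [hM, ← mul_assoc, pauli_comm, Matrix.smul_mul, mul_assoc, h2, Matrix.mul_smul, smul_smul,
      add_comm (coc w z), hz, sgn_mul_self, one_smul, mul_assoc]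
  have hscal := eq_scalar M hcomm
  have hm : M 0 0 ≠ 0 := fun h => hne z (by rw [← hM, hscal, h, zero_smul])
  obtain ⟨c, hc⟩ := zmod_two_facts.2.2.1 _ hm
  refine ⟨(coc z z + c, z), Subtype.ext (Subtype.ext (Prod.ext (Units.ext ?_) rfl))⟩
  show sgn (coc z z + c) • pauli z = g.1
  have h3 := congrArg (fun N => pauli z * N) (hscal.trans (by rw [hc]))
  simp only [hM, ← mul_assoc, pauli_sq, Matrix.smul_mul, one_mul, Matrix.mul_smul, mul_one] at h3
  rw [sgn_add, ← smul_smul, ← h3, smul_smul]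
  show (sgn (coc z z) * sgn (coc z z)) • g.1 = g.1
  rw [sgn_mul_self, one_smul]

end CfsgLib.ExtraspecialLift
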