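import Mathlib

/-!
# Sign matrices realising the extraspecial 2-group of plus type over `ZMod 3`
-/

set_option autoImplicit false

namespace CfsgLib.ExtraspecialLift

open Matrix

variable {n : ℕ}

/-- Index set of the matrices. -/
abbrev Idx (n : ℕ) : Type := Fin n → ZMod 2

/-- Labels of the matrices. -/
abbrev Lab (n : ℕ) : Type := Idx n × Idx n

/-- The sign character. -/
def sgn (c : ZMod 2) : ZMod 3 := if c = 0 then 1 else -1

theorem sgn_add : ∀ a b : ZMod 2, sgn (a + b) = sgn a * sgn b := by decide +kernel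

theorem sgn_mul_self : ∀ a : ZMod 2, sgn a * sgn a = 1 := by decide +kernel

theorem sgn_zero : sgn 0 = 1 := rfl

theorem sgn_ne_zero : ∀ a : ZMod 2, sgn a ≠ 0 := by decide +kernel

theorem sgn_injective : Function.Injective sgn := by decide +kernel

theorem zmod_two_facts : (∀ a : ZMod 2, a + a = 0) ∧ (∀ a : ZMod 2, a = 0 ∨ a = 1) ∧
    (∀ c : ZMod 3, c ≠ 0 → ∃ e : ZMod 2, c = sgn e) ∧ ∀ a b : ZMod 3, a * a = 1 → a * (a * b) = b := by
  decide +kernel

/-- The dot product. -/
def dot (a b : Idx n) : ZMod 2 := ∑ i, a i * b i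

theorem dot_add_left (a a' b : Idx n) : dot (a + a') b = dot a b + dot a' b := by
  simp [dot, add_mul, Finset.sum_add_distrib]

theorem dot_add_right (a b b' : Idx n) : dot a (b + b') = dot a b + dot a b' := by
  simp [dot, mul_add, Finset.sum_add_distrib]

theorem dot_comm (a b : Idx n) : dot a b = dot b a := by simp [dot, mul_comm]

theorem dot_zero_left (b : Idx n) : dot 0 b = 0 := by simp [dot]

theorem dot_single (b : Idx n) (i : Fin n) : dot (Pi.single i 1) b = b i := by
  simp [dot, Pi.single_apply]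

theorem idx_add_self (a : Idx n) : a + a = 0 := funext fun i => zmod_two_facts.1 (a i)

theorem lab_add_self (z : Lab n) : z + z = 0 :=
  Prod.ext (idx_add_self z.1) (idx_add_self z.2)

/-- The monomial matrix of a label. -/
def pauli (z : Lab n) : Matrix (Idx n) (Idx n) (ZMod 3) :=
  fun x y => if y = x + z.1 then sgn (dot z.2 x) else 0

/-- The cocycle. -/
def coc (z w : Lab n) : ZMod 2 := dot w.2 z.1

theorem coc_add_left (z z' w : Lab n) : coc (z + z') w = coc z w + coc z' w := dot_add_right _ _ _

theorem coc_add_right (z w w' : Lab n) : coc z (w + w') = coc z w + coc z w' := dot_add_left _ _ _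

theorem pauli_zero : pauli (0 : Lab n) = 1 := by
  refine Matrix.ext fun x y => ?_
  simp [pauli, Matrix.one_apply, dot_zero_left, sgn_zero, eq_comm]

theorem pauli_mul_apply (z : Lab n) (M : Matrix (Idx n) (Idx n) (ZMod 3)) (x y : Idx n) :
    (pauli z * M) x y = sgn (dot z.2 x) * M (x + z.1) y := by
  simp [Matrix.mul_apply, pauli]

theorem mul_pauli_apply (z : Lab n) (M : Matrix (Idx n) (Idx n) (ZMod 3)) (x y : Idx n) :
    (M * pauli z) x y = M x (y + z.1) * sgn (dot z.2 (y + z.1)) := by
  have h : ∀ k : Idx n, y = k + z.1 ↔ k = y + z.1 := fun k => by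
    constructor <;> rintro rfl <;> rw [add_assoc, idx_add_self, add_zero]
  simp [Matrix.mul_apply, pauli, h]

theorem pauli_mul (z w : Lab n) : pauli z * pauli w = sgn (coc z w) • pauli (z + w) := by
  refine Matrix.ext fun x y => ?_
  rw [pauli_mul_apply, Matrix.smul_apply, smul_eq_mul]
  simp only [pauli, Prod.fst_add, Prod.snd_add, add_assoc]
  split
  · rw [coc, dot_add_right, dot_add_left, sgn_add, sgn_add]
    ring
  · simp

theorem pauli_sq (z : Lab n) : pauli z * pauli z = sgn (dot z.2 z.1) • (1 : Matrix (Idx n) (Idx n) (ZMod 3)) := by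
  rw [pauli_mul, lab_add_self, pauli_zero]
  rfl

theorem pauli_comm (z w : Lab n) : pauli z * pauli w = sgn (coc z w + coc w z) • (pauli w * pauli z) := by
  rw [pauli_mul, pauli_mul, smul_smul, add_comm w z, sgn_add, mul_assoc, sgn_mul_self, mul_one]

/-- A signed matrix determines its sign and label. -/
theorem signed_injective {d e : ZMod 2} {z w : Lab n} (h : sgn d • pauli z = sgn e • pauli w) :
    d = e ∧ z = w := by
  have h0 := congrFun (congrFun h 0) z.1
  simp only [Matrix.smul_apply, smul_eq_mul, pauli, zero_add, if_pos] at h0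
  by_cases h1 : z.1 = w.1
  · simp only [if_pos h1, dot_comm _ (0 : Idx n), dot_zero_left, sgn_zero, mul_one] at h0
    have hd : d = e := sgn_injective h0
    refine ⟨hd, Prod.ext h1 (funext fun i => ?_)⟩
    subst hd
    have hi := congrFun (congrFun h (Pi.single i 1)) (Pi.single i 1 + z.1)
    simp only [Matrix.smul_apply, smul_eq_mul, pauli] at hi
    simp only [h1, if_true] at hi
    have h2 := sgn_injective (mul_left_cancel₀ (sgn_ne_zero d) hi)
    rwa [dot_comm, dot_single, dot_comm, dot_single] at h2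
  · exfalso
    rw [if_neg h1, mul_zero, dot_comm, dot_zero_left, sgn_zero, mul_one] at h0
    exact sgn_ne_zero d h0

/-- Only scalars commute with all the matrices. -/
theorem eq_scalar (M : Matrix (Idx n) (Idx n) (ZMod 3))
    (h : ∀ z, pauli z * M = M * pauli z) : M = M 0 0 • 1 := by
  refine Matrix.ext fun x y => ?_
  rw [Matrix.smul_apply, smul_eq_mul, Matrix.one_apply]
  by_cases hxy : x = y
  · subst hxy
    rw [if_pos rfl, mul_one]
    have h1 := congrFun (congrFun (h (x, 0)) 0) x
    rw [pauli_mul_apply, mul_pauli_apply] at h1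
    simpa [dot_zero_left, sgn_zero, idx_add_self] using h1
  · rw [if_neg hxy, mul_zero]
    obtain ⟨i, hi⟩ := Function.ne_iff.1 hxy
    have h1 := congrFun (congrFun (h (0, Pi.single i 1)) x) y
    rw [pauli_mul_apply, mul_pauli_apply] at h1
    simp only [add_zero, dot_single] at h1
    by_contra hM
    exact hi (sgn_injective (mul_right_cancel₀ hM (h1.trans (mul_comm _ _))))

theorem sum_sgn_dot (c : Idx n) (hc : c ≠ 0) : ∑ x : Idx n, sgn (dot c x) = 0 := by
  obtain ⟨i, hi⟩ := Function.ne_iff.1 hc
  have hi1 : c i = 1 := (zmod_two_facts.2.1 (c i)).resolve_left hi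
  have h := Equiv.sum_comp (Equiv.addRight (Pi.single i 1)) fun x : Idx n => sgn (dot c x)
  simp only [Equiv.coe_addRight, dot_add_right, sgn_add, ← Finset.sum_mul] at h
  rw [dot_comm c (Pi.single i 1), dot_single, hi1] at h
  revert h
  generalize (∑ x : Idx n, sgn (dot c x)) = S
  revert S
  decide +kernel

theorem two_pow_ne_zero (n : ℕ) : ((2 : ZMod 3) ^ n) ≠ 0 := pow_ne_zero _ (by decide)

theorem sum_sgn_dot_eq (c : Idx n) : ∑ x : Idx n, sgn (dot c x) = if c = 0 then 2 ^ n else 0 := by
  split
  · subst c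
    simp [dot_zero_left, sgn_zero]
  · exact sum_sgn_dot c ‹_›

/-- The matrices are linearly independent. -/
theorem pauli_indep (f : Lab n → ZMod 3) (h : ∑ z, f z • pauli z = 0) : f = 0 := by
  funext z
  obtain ⟨a, b⟩ := z
  have h1 : ∀ x : Idx n, ∑ b' : Idx n, f (a, b') * sgn (dot b' x) = 0 := fun x => by
    have h2 := congrFun (congrFun h x) (x + a)
    simp only [Matrix.sum_apply, Matrix.smul_apply, smul_eq_mul, pauli, add_right_inj,
      Fintype.sum_prod_type, Matrix.zero_apply, mul_ite, mul_zero] at h2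
    rw [Finset.sum_eq_single a] at h2
    · simpa using h2
    · intro a' _ ha'
      simp [Ne.symm ha']
    · simp
  have h3 : ∑ x : Idx n, sgn (dot b x) * ∑ b' : Idx n, f (a, b') * sgn (dot b' x) = 0 := by
    simp [h1]
  simp only [Finset.mul_sum] at h3
  rw [Finset.sum_comm] at h3
  have h4 : ∀ b' : Idx n, ∑ x : Idx n, sgn (dot b x) * (f (a, b') * sgn (dot b' x)) =
      f (a, b') * ∑ x : Idx n, sgn (dot (b + b') x) := fun b' => by
    rw [Finset.mul_sum]
    refine Finset.sum_congr rfl fun x _ => ?_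
    rw [dot_add_left, sgn_add]
    ring
  simp only [h4, sum_sgn_dot_eq, mul_ite, mul_zero] at h3
  rw [Finset.sum_eq_single b] at h3
  · rw [if_pos (idx_add_self b)] at h3
    exact (mul_eq_zero.1 h3).resolve_right (two_pow_ne_zero n)
  · intro b' _ hb'
    rw [if_neg]
    intro e
    apply hb'
    calc b' = b + (b + b') := by rw [← add_assoc, idx_add_self, zero_add]
      _ = b := by rw [e, add_zero]
  · simp

/-- A nonzero vector generates everything under the matrices. -/
theorem eq_top_of_invariant (N : Submodule (ZMod 3) (Idx n → ZMod 3))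
    (h : ∀ z, ∀ v ∈ N, (pauli z).mulVec v ∈ N) {v : Idx n → ZMod 3} (hv : v ∈ N) (hv0 : v ≠ 0) :
    N = ⊤ := by
  classical
  obtain ⟨x0, hx0⟩ := Function.ne_iff.1 hv0
  have hP : ∀ (z : Lab n) (w : Idx n → ZMod 3) (x : Idx n),
      (pauli z).mulVec w x = sgn (dot z.2 x) * w (x + z.1) := fun z w x => by
    simp [Matrix.mulVec, dotProduct, pauli]
  have h1 : (Pi.single x0 (2 ^ n * v x0) : Idx n → ZMod 3) ∈ N := by
    have hs : ∑ b : Idx n, sgn (dot b x0) • (pauli (0, b)).mulVec v ∈ N :=
      Submodule.sum_mem _ fun b _ => N.smul_mem _ (h _ v hv)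
    convert hs using 1
    funext x
    simp only [Finset.sum_apply, Pi.smul_apply, smul_eq_mul, hP, add_zero]
    have h4 : ∀ b : Idx n, sgn (dot b x0) * (sgn (dot b x) * v x) = sgn (dot (x0 + x) b) * v x :=
      fun b => by
        rw [dot_comm (x0 + x) b, dot_add_right, sgn_add, mul_assoc]
    rw [Finset.sum_congr rfl fun b _ => h4 b, ← Finset.sum_mul, sum_sgn_dot_eq]
    by_cases hx : x = x0
    · subst hx
      simp [idx_add_self]
    · rw [Pi.single_apply, if_neg hx, if_neg, zero_mul]
      intro e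
      apply hx
      calc x = x0 + (x0 + x) := by rw [← add_assoc, idx_add_self, zero_add]
        _ = x0 := by rw [e, add_zero]
  have h2 : ∀ (y : Idx n) (c : ZMod 3), (Pi.single y c : Idx n → ZMod 3) ∈ N := by
    intro y c
    have hd : 2 ^ n * v x0 ≠ 0 := mul_ne_zero (two_pow_ne_zero n) hx0
    have h3 := N.smul_mem (c / (2 ^ n * v x0)) (h (y + x0, 0) _ h1)
    convert h3 using 1
    funext x
    rw [Pi.smul_apply, smul_eq_mul, hP, dot_zero_left, sgn_zero, one_mul, Pi.single_apply,
      Pi.single_apply]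
    have hiff : x + (y + x0) = x0 ↔ x = y := by
      constructor
      · intro e
        rw [← add_assoc, add_eq_right] at e
        calc x = x + y + y := by rw [add_assoc, idx_add_self, add_zero]
          _ = y := by rw [e, zero_add]
      · rintro rfl
        rw [← add_assoc, idx_add_self, zero_add]
    by_cases hx : x = y
    · rw [if_pos hx, if_pos (hiff.2 hx), div_mul_cancel₀ _ hd]
    · rw [if_neg hx, if_neg (fun e => hx (hiff.1 e)), mul_zero]
  rw [eq_top_iff]
  intro w _
  rw [← Finset.univ_sum_single w]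
  exact Submodule.sum_mem _ fun y _ => h2 y _

/-- A signed lift of a map of labels whose cocycles differ by an alternating form is realised by
an invertible matrix. -/
theorem exists_intertwiner (φ : Lab n → Lab n) (hφ : ∀ z w, φ (z + w) = φ z + φ w)
    (η : Lab n → ZMod 2)
    (hη : ∀ z w, η (z + w) = η z + η w + coc z w + coc (φ z) (φ w)) :
    ∃ g : GL (Idx n) (ZMod 3), ∀ z,
      g.1 * pauli z = sgn (η z) • (pauli (φ z) * g.1) := by
  classical
  set P' : Lab n → Matrix (Idx n) (Idx n) (ZMod 3) := fun z => sgn (η z) • pauli (φ z) with hP'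
  have hP'mul : ∀ w z, P' w * P' z = sgn (coc w z) • P' (w + z) := fun w z => by
    simp only [hP', Matrix.smul_mul, Matrix.mul_smul, smul_smul, pauli_mul, ← hφ, hη, sgn_add]
    congr 1
    have h1 := sgn_mul_self (η w)
    have h2 := sgn_mul_self (η z)
    have h3 := sgn_mul_self (coc w z)
    linear_combination (-(sgn (η w) * sgn (η z) * sgn (coc (φ w) (φ z)))) * h3
  -- inverses
  set Pi' : Lab n → Matrix (Idx n) (Idx n) (ZMod 3) := fun z => sgn (dot z.2 z.1) • pauli z with hPi
  have hinvmul : ∀ w z, Pi' (w + z) * pauli w = sgn (coc w z) • Pi' z := fun w z => by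
    simp only [hPi, Matrix.smul_mul, pauli_mul, smul_smul]
    rw [show w + z + w = z by rw [add_comm w z, add_assoc, lab_add_self, add_zero]]
    congr 1
    simp only [coc, Prod.fst_add, Prod.snd_add, dot_add_left, dot_add_right, sgn_add]
    have h1 := sgn_mul_self (dot w.2 w.1)
    have h2 := sgn_mul_self (dot w.2 z.1)
    linear_combination (sgn (dot z.2 z.1) * sgn (dot z.2 w.1) * sgn (dot w.2 z.1) * sgn (dot w.2 z.1)) * h1
      + (sgn (dot z.2 z.1) * sgn (dot z.2 w.1)) * h2
  let T : Matrix (Idx n) (Idx n) (ZMod 3) → Matrix (Idx n) (Idx n) (ZMod 3) :=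
    fun Y => ∑ z, P' z * Y * Pi' z
  have hT : ∀ Y w, P' w * T Y = T Y * pauli w := fun Y w => by
    simp only [T, Finset.mul_sum, Finset.sum_mul]
    refine Fintype.sum_equiv (Equiv.addLeft w) _ _ fun z => ?_
    rw [Equiv.coe_addLeft, mul_assoc (P' (w + z) * Y), hinvmul, ← mul_assoc, ← mul_assoc, hP'mul]
    simp only [Matrix.mul_smul, Matrix.smul_mul]
  obtain ⟨Y, hY⟩ : ∃ Y, T Y ≠ 0 := by
    by_contra hall
    push Not at hall
    have h1 : ∀ i k l j : Idx n, ∑ z, P' z i k * Pi' z l j = 0 := fun i k l j => by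
      have h2 := congrFun (congrFun (hall (Matrix.single k l 1)) i) j
      simpa [T, Matrix.sum_apply, Matrix.mul_apply, Matrix.single_apply, Finset.sum_mul,
        ite_and] using h2
    have h2 : ∀ i k : Idx n, (fun z => P' z i k * sgn (dot z.2 z.1)) = 0 := fun i k => by
      refine pauli_indep _ (Matrix.ext fun l j => ?_)
      rw [Matrix.sum_apply, Matrix.zero_apply, ← h1 i k l j]
      refine Finset.sum_congr rfl fun z _ => ?_
      simp only [hPi, Matrix.smul_apply, smul_eq_mul]
      ring
    have h3 := congrFun (h2 0 (φ 0).1) 0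
    simp only [hP', Matrix.smul_apply, smul_eq_mul, pauli, zero_add, if_pos, Pi.zero_apply] at h3
    rw [mul_eq_zero, mul_eq_zero] at h3
    rcases h3 with (h3 | h3) | h3 <;> exact sgn_ne_zero _ h3
  set g0 := T Y with hg0
  let N : Submodule (ZMod 3) (Idx n → ZMod 3) := LinearMap.ker (Matrix.mulVecLin g0)
  have hinj : Function.Injective g0.mulVec := by
    rw [← Matrix.coe_mulVecLin, ← LinearMap.ker_eq_bot]
    by_contra hN
    obtain ⟨v, hv, hv0⟩ := Submodule.exists_mem_ne_zero_of_ne_bot hN
    have htop := eq_top_of_invariant N (fun z u hu => by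
      rw [LinearMap.mem_ker, Matrix.mulVecLin_apply] at hu ⊢
      rw [Matrix.mulVec_mulVec, ← hT, ← Matrix.mulVec_mulVec, hu, Matrix.mulVec_zero]) hv hv0
    refine hY (Matrix.ext fun i j => ?_)
    have h1 : (Pi.single j 1 : Idx n → ZMod 3) ∈ N := htop ▸ Submodule.mem_top
    rw [LinearMap.mem_ker, Matrix.mulVecLin_apply] at h1
    simpa [Matrix.mulVec_single] using congrFun h1 i
  refine ⟨(Matrix.mulVec_injective_iff_isUnit.1 hinj).unit, fun z => ?_⟩
  rw [IsUnit.unit_spec, ← hT, hP']
  simp only [Matrix.smul_mul]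
  rfl

end CfsgLib.ExtraspecialLift
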